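import Groth.Agent.Lib.Abel10.Fibre
import Groth.Agent.Lib.CurveAmple18.PointTwist
import Groth.Agent.Lib.CurveCoh17.P1Apps
import Groth.Agent.Lib.VB17.Proper
import Groth.Agent.Lib.VB17.Duality
import Groth.Agent.Lib.WeierModel17.Point
import Groth.Agent.Lib.CurveCoh17.Equality
import Groth.Agent.Lib.SchImage.ReducedKer

/-!
# Rational points of a curve over a field and the drop of `h⁰`
-/

set_option autoImplicit false
set_option linter.style.haveILetI false
set_option linter.unusedSectionVars false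
set_option backward.isDefEq.respectTransparency false
set_option backward.isDefEq.respectTransparency.types false

universe u

open CategoryTheory CategoryTheory.Limits AlgebraicGeometry TopologicalSpace Opposite

noncomputable section

namespace Groth.Agent.CurvePts22

open Groth.Agent.CurveCoh17
open Groth.Agent.M1 (secHom)

attribute [local instance] stalkMod Curv2.resAlgebra

variable {k : Type u} [Field k] {C : Scheme.{u}}

/-- The image of a rational point. -/
def pt (σ : Spec (CommRingCat.of k) ⟶ C) : C := σ (IsLocalRing.closedPoint k)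

theorem base_eq_pt (σ : Spec (CommRingCat.of k) ⟶ C) (p : Spec (CommRingCat.of k)) : σ.base p = pt σ := by
  haveI : Subsingleton (Spec (CommRingCat.of k)) := inferInstanceAs (Subsingleton (PrimeSpectrum k))
  exact congrArg σ (Subsingleton.elim _ _)

theorem range_eq (σ : Spec (CommRingCat.of k) ⟶ C) : Set.range σ = {pt σ} :=
  Set.eq_singleton_iff_unique_mem.2 ⟨⟨_, rfl⟩, by rintro _ ⟨a, rfl⟩; exact base_eq_pt σ a⟩

variable [C.Over (Spec (CommRingCat.of k))]

theorem isClosedImmersion_of_section [IsSeparated (C ↘ Spec (CommRingCat.of k))] (σ : Spec (CommRingCat.of k) ⟶ C)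
    (hσ : σ ≫ (C ↘ Spec (CommRingCat.of k)) = 𝟙 _) : IsClosedImmersion σ := by
  haveI : IsClosedImmersion (σ ≫ (C ↘ Spec (CommRingCat.of k))) := by rw [hσ]; infer_instance
  exact IsClosedImmersion.of_comp σ (C ↘ Spec (CommRingCat.of k))

variable [IsProper (C ↘ Spec (CommRingCat.of k))]

theorem isClosed_pt (σ : Spec (CommRingCat.of k) ⟶ C) (hσ : σ ≫ (C ↘ Spec (CommRingCat.of k)) = 𝟙 _) :
    IsClosed ({pt σ} : Set C) := by
  haveI := isClosedImmersion_of_section σ hσ
  rw [← range_eq σ]
  exact σ.isClosedEmbedding.isClosed_range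

theorem ker_eq (σ : Spec (CommRingCat.of k) ⟶ C) (hσ : σ ≫ (C ↘ Spec (CommRingCat.of k)) = 𝟙 _) :
    σ.ker = Scheme.IdealSheafData.vanishingIdeal (⟨{pt σ}, isClosed_pt σ hσ⟩ : Closeds C) := by
  haveI := isClosedImmersion_of_section σ hσ
  rw [SchImage.ker_eq_vanishingIdeal]
  congr 1
  refine Closeds.ext ?_
  show closure (Set.range σ) = {pt σ}
  rw [range_eq σ]
  exact (isClosed_pt σ hσ).closure_eq

theorem finrank_residueField_pt (σ : Spec (CommRingCat.of k) ⟶ C)
    (hσ : σ ≫ (C ↘ Spec (CommRingCat.of k)) = 𝟙 _) : Module.finrank k (C.residueField (pt σ)) = 1 := by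
  haveI := isClosedImmersion_of_section σ hσ
  rw [← CurveCoh17.finrank_quotMod_point (k := k) (isClosed_pt σ hσ), ← ker_eq σ hσ]
  exact Abel10.finrank_quotMod_section σ hσ

/-- Points where some section generates. -/
def goodOpen (L : C.Modules) : C.Opens := ⨆ z : Γ(L, (⊤ : C.Opens)), CohB1.genLocus L (secHom z)

variable [IsIntegral C]

theorem goodOpen_nonempty {L : C.Modules} (hL : PicF.IsInvertible L) (h : 0 < Module.finrank k (Coh.HH C L 0)) :
    (goodOpen L : Set C).Nonempty := by
  haveI : Nontrivial (Coh.HH C L 0) := Module.nontrivial_of_finrank_pos (R := k) h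
  obtain ⟨z, hz⟩ := exists_ne (0 : Coh.HH C L 0)
  refine ⟨genericPoint C, Opens.mem_iSup.2 ⟨hh0 L z, ?_⟩⟩
  exact (Amp.mem_genLocus_iff hL _).2 (by rw [Amp.gval_secHom]; exact span_germ_genericPoint hL (hh0_ne_zero hz))

theorem mem_goodOpen_iff {L : C.Modules} (hL : PicF.IsInvertible L) (x : C) :
    x ∈ goodOpen L ↔ ∃ t : Γ(L, (⊤ : C.Opens)), Submodule.span (C.presheaf.stalk x)
      ({(L.presheaf.germ ⊤ x trivial t : L.presheaf.stalk x)} : Set (L.presheaf.stalk x)) = ⊤ := by
  simp only [goodOpen, Opens.mem_iSup]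
  refine exists_congr fun t => ?_
  rw [Amp.mem_genLocus_iff hL, Amp.gval_secHom]
  refine ⟨fun hg => top_le_iff.1 fun a _ => Submodule.mem_span_singleton.2 (hg.2 a), fun h => ?_⟩
  have hm := CurveAmple18.gen_of_surjective hL t x (surjective_stalk_secHom t x fun a =>
    Submodule.mem_span_singleton.1 (h.symm ▸ Submodule.mem_top))
  have := (Amp.mem_genLocus_iff hL _).1 hm
  rwa [Amp.gval_secHom] at this

variable (hdim : topologicalKrullDim C = 1) (σ : Spec (CommRingCat.of k) ⟶ C)
  (hσ : σ ≫ (C ↘ Spec (CommRingCat.of k)) = 𝟙 _)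
include hdim hσ

/-- At a point where a section generates `h⁰` drops by one. -/
theorem h0_drop_of_mem {L : C.Modules} (hL : PicF.IsInvertible L) (h : pt σ ∈ goodOpen L) :
    Module.finrank k (Coh.HH C L 0) = Module.finrank k (Coh.HH C (CohB1.tensorMod L (ClSub.idealMod σ.ker)) 0) + 1 := by
  have hX := VB17.curveLike (k := k) hdim
  haveI := hX.noetherian
  obtain ⟨h1, h2⟩ := finrank_twist_point hX hL (isClosed_pt σ hσ)
  rw [finrank_residueField_pt σ hσ] at h1
  haveI := hX.fin L (isCoh_of_ofRank ((M2.isInvertible_iff_isFinLocFreeOfRank_one L).1 hL)) 0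
  have hne := (atPoint_ne_zero_iff (k := k) hL (isClosed_pt σ hσ)).2 ((mem_goodOpen_iff hL _).1 h)
  have : 0 < Module.finrank k (LinearMap.range (atPoint k (isClosed_pt σ hσ) L)) :=
    Module.finrank_pos_iff.2 (Submodule.nontrivial_iff_ne_bot.2 (by rwa [ne_eq, LinearMap.range_eq_bot]))
  rw [ker_eq σ hσ]
  omega

/-- Elsewhere it stays. -/
theorem h0_eq_of_notMem {L : C.Modules} (hL : PicF.IsInvertible L) (h : pt σ ∉ goodOpen L) :
    Module.finrank k (Coh.HH C L 0) = Module.finrank k (Coh.HH C (CohB1.tensorMod L (ClSub.idealMod σ.ker)) 0) := by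
  have hX := VB17.curveLike (k := k) hdim
  obtain ⟨-, h2⟩ := finrank_twist_point hX hL (isClosed_pt σ hσ)
  have h0 : atPoint k (isClosed_pt σ hσ) L = 0 := by
    by_contra hne
    exact h ((mem_goodOpen_iff hL _).2 ((atPoint_ne_zero_iff (k := k) hL (isClosed_pt σ hσ)).1 hne))
  rw [h0, LinearMap.range_zero, finrank_bot] at h2
  rw [ker_eq σ hσ]
  omega

variable [Smooth (C ↘ Spec (CommRingCat.of k))]

/-- A rational point gives Serre duality. -/
theorem setup : VB17.RegCurve k C ∧ Module.finrank k (Coh.HH C (Coh.structureModule C) 0) = 1 ∧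
    VB17.HasBigDeg k C := by
  have hX := VB17.regCurve' (k := k) hdim
  refine ⟨hX, WeierModel17.h0_eq_one_of_point σ hσ hX.like, fun b => ?_⟩
  obtain ⟨D, hD, hdD, -⟩ := hX.like.exists_deg_one_of_point hdim (isClosed_pt σ hσ) (hX.pid _)
    (finrank_residueField_pt σ hσ)
  refine ⟨CohB1.tensorPow D b.toNat, M2.isInvertible_tensorPow hD _, ?_⟩
  rw [hX.like.deg_tensorPow hD, hdD, mul_one]
  exact Int.self_le_toNat b

end Groth.Agent.CurvePts22
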