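import Groth.Agent.Lib.CurvePts22.Basic
import Groth.Agent.Lib.Abel10.CurvePts
import Groth.Agent.Lib.CurveCoh17.VeryAmple
import Groth.Agent.Lib.CurveOm17.CliffordStep
import Groth.Prelude.Def_SymProd
import Groth.Prelude.Def_FGA

/-!
# General points impose independent conditions
-/

set_option autoImplicit false
set_option linter.style.haveILetI false
set_option linter.unusedSectionVars false
set_option backward.isDefEq.respectTransparency false
set_option backward.isDefEq.respectTransparency.types false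
set_option maxHeartbeats 800000

universe u

open CategoryTheory CategoryTheory.Limits AlgebraicGeometry TopologicalSpace Opposite

noncomputable section

namespace Groth.Agent.CurvePts22

open Groth.Agent.CurveCoh17
open Groth.Agent.M1 Groth.Agent.M2

attribute [local instance] stalkMod Curv2.resAlgebra

variable {k : Type u} [Field k]

/-- The value of a function at a rational point. -/
def val {X : Scheme.{u}} (x : Spec (CommRingCat.of k) ⟶ X) (U : X.Opens) (h : pt x ∈ U) : Γ(X, U) →+* k :=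
  (x.appLE U ⊤ (fun p _ => show x.base p ∈ U from (base_eq_pt x p).symm ▸ h) ≫
    (Scheme.ΓSpecIso (CommRingCat.of k)).hom).hom

theorem val_eq_zero_iff {X : Scheme.{u}} (x : Spec (CommRingCat.of k) ⟶ X) (U : X.Opens) (h : pt x ∈ U)
    (f : Γ(X, U)) : val x U h f = 0 ↔ pt x ∉ X.basicOpen f := by
  have hle : ∀ p, p ∈ x ⁻¹ᵁ U := fun p => show x.base p ∈ U from (base_eq_pt x p).symm ▸ h
  have e := Scheme.basicOpen_appLE x ⊤ U (fun p _ => hle p) f
  have key : pt x ∈ X.basicOpen f ↔ IsLocalRing.closedPoint k ∈ (Spec (CommRingCat.of k)).basicOpen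
      (x.appLE U ⊤ (fun p _ => hle p) f) := by
    rw [e]
    exact ⟨fun hm => ⟨trivial, hm⟩, fun hm => hm.2⟩
  have hb : x.appLE U ⊤ (fun p _ => hle p) f = (Scheme.ΓSpecIso (CommRingCat.of k)).inv (val x U h f) := by
    simp only [val]
    exact (Iso.hom_inv_id_apply (Scheme.ΓSpecIso (CommRingCat.of k)) _).symm
  rw [key, hb, basicOpen_eq_of_affine]
  show _ ↔ ¬ (IsLocalRing.closedPoint k : PrimeSpectrum k) ∈ PrimeSpectrum.basicOpen (val x U h f)
  rw [PrimeSpectrum.mem_basicOpen, not_not, IsLocalRing.closedPoint]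
  show _ ↔ val x U h f ∈ IsLocalRing.maximalIdeal k
  rw [IsLocalRing.maximalIdeal_eq_bot, Ideal.mem_bot]

theorem val_comp {X Y : Scheme.{u}} (x : Spec (CommRingCat.of k) ⟶ X) (π : X ⟶ Y) (O : X.Opens) (U : Y.Opens)
    (hx : pt x ∈ O) (hy : pt (x ≫ π) ∈ U) (e : O ≤ π ⁻¹ᵁ U) (f : Γ(Y, U)) :
    val x O hx (π.appLE U O e f) = val (x ≫ π) U hy f := by
  show (π.appLE U O e ≫ x.appLE O ⊤ _ ≫ (Scheme.ΓSpecIso (CommRingCat.of k)).hom) f = _
  rw [Scheme.Hom.appLE_comp_appLE_assoc]
  rfl

/-- Scalars as functions on an open. -/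
def cst (X : Scheme.{u}) [X.Over (Spec (CommRingCat.of k))] (U : X.Opens) : k →+* Γ(X, U) :=
  (X.presheaf.map (homOfLE (le_top : U ≤ ⊤)).op).hom.comp (Coh.toGlobal (X ↘ Spec (CommRingCat.of k)))

theorem val_cst {X : Scheme.{u}} [X.Over (Spec (CommRingCat.of k))] (x : Spec (CommRingCat.of k) ⟶ X)
    (hx : x ≫ (X ↘ Spec (CommRingCat.of k)) = 𝟙 _) (U : X.Opens) (h : pt x ∈ U) (c : k) :
    val x U h (cst X U c) = c := by
  show ((Scheme.ΓSpecIso (CommRingCat.of k)).inv ≫ (X ↘ Spec (CommRingCat.of k)).appTop ≫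
    X.presheaf.map (homOfLE (le_top : U ≤ ⊤)).op ≫ x.appLE U ⊤ _ ≫ (Scheme.ΓSpecIso (CommRingCat.of k)).hom) c = c
  rw [Scheme.Hom.map_appLE_assoc, show ∀ e, x.appLE ⊤ ⊤ e = x.appTop from fun e => by
    simp [Scheme.Hom.appLE, Scheme.Hom.appTop], ← Scheme.Hom.comp_appTop_assoc, hx]
  simp

variable {C : Scheme.{u}} [C.Over (Spec (CommRingCat.of k))]

/-- The sections of `L` are vanishing at `P`. -/
abbrev VanishAt (L : C.Modules) (z : Coh.HH C L 0) (P : C) : Prop :=
  (L.presheaf.germ ⊤ P trivial (hh0 L z) : L.presheaf.stalk P) ∈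
    IsLocalRing.maximalIdeal (C.presheaf.stalk P) • (⊤ : Submodule (C.presheaf.stalk P) (L.presheaf.stalk P))

theorem vanishAt_hmap {M N : C.Modules} (φ : M ⟶ N) (z : Coh.HH C M 0) (P : C) (h : VanishAt M z P) :
    VanishAt N (hmap k φ 0 z) P := by
  have := CurveOm17.stalkLin_mem_smul φ P h
  rw [stalkLin_apply, M1.germ_naturality, ← hh0_hmap k φ z] at this
  exact this

variable [IsProper (C ↘ Spec (CommRingCat.of k))] [Smooth (C ↘ Spec (CommRingCat.of k))] [IsIntegral C]
  (hdim : topologicalKrullDim C = 1)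
include hdim

theorem isInvertible_ptIdeal (σ : Spec (CommRingCat.of k) ⟶ C) (hσ : σ ≫ (C ↘ Spec (CommRingCat.of k)) = 𝟙 _) :
    PicF.IsInvertible (ClSub.idealMod σ.ker) :=
  Abel10.isInvertible_point hdim σ hσ

theorem isInvertible_ptList : ∀ (l : List (Spec (CommRingCat.of k) ⟶ C))
    (_ : ∀ σ ∈ l, σ ≫ (C ↘ Spec (CommRingCat.of k)) = 𝟙 _),
    PicF.IsInvertible (FGA.tensorList (l.map fun σ => ClSub.idealMod σ.ker))
  | [], _ => PicLoc.isInvertible_structureModule C
  | a :: l, h => M2.isInvertible_tensor (isInvertible_ptIdeal hdim a (h a (by simp)))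
      (isInvertible_ptList l fun σ hσ => h σ (by simp [hσ]))

/-- One step: twisting down by a point embeds sections into the ones vanishing there. -/
theorem exists_vanish_step (a : Spec (CommRingCat.of k) ⟶ C) (ha : a ≫ (C ↘ Spec (CommRingCat.of k)) = 𝟙 _)
    (N : C.Modules) (hN : PicF.IsInvertible N) :
    ∃ ψ : CohB1.tensorMod N (ClSub.idealMod a.ker) ⟶ N, Function.Injective (hmap k ψ 0) ∧
      ∀ z, VanishAt N (hmap k ψ 0 z) (pt a) := by
  have hP := isClosed_pt a ha
  rw [ker_eq a ha]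
  let I := ClSub.idealMod (Scheme.IdealSheafData.vanishingIdeal (⟨{pt a}, hP⟩ : Closeds C))
  let τ : CohB1.tensorMod N I ≅ CohB1.tensorMod I N := M2.tensorComm _ _
  haveI hf : Mono (pointSC hP N).f := (twistSES hN _).mono_f
  haveI hi : Mono (pointIncl hP N) := @mono_comp _ _ _ _ _ _ hf _ inferInstance
  let ψ : CohB1.tensorMod N I ⟶ N := τ.hom ≫ pointIncl hP N
  haveI hm : Mono ψ := @mono_comp _ _ _ _ _ τ.hom inferInstance (pointIncl hP N) hi
  refine ⟨ψ, hmap_f_injective k (S := ShortComplex.mk ψ (cokernel.π ψ) (cokernel.condition ψ))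
    { exact := ShortComplex.exact_of_g_is_cokernel _ (cokernelIsCokernel ψ) },
    fun z => (germ_mem_iff (k := k) hN hP _).2 ⟨hmap k τ.hom 0 z, ?_⟩⟩
  exact (LinearMap.congr_fun (VB17.hmap_comp' (k := k) τ.hom (pointIncl hP N) 0) z).symm

/-- Twisting down by points embeds sections into the ones vanishing at those points. -/
theorem exists_vanish_map : ∀ (l : List (Spec (CommRingCat.of k) ⟶ C))
    (_ : ∀ σ ∈ l, σ ≫ (C ↘ Spec (CommRingCat.of k)) = 𝟙 _) (N : C.Modules) (_ : PicF.IsInvertible N),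
    ∃ φ : Coh.HH C (CohB1.tensorMod N (FGA.tensorList (l.map fun σ => ClSub.idealMod σ.ker))) 0 →ₗ[k] Coh.HH C N 0,
      Function.Injective φ ∧ ∀ z, ∀ σ ∈ l, VanishAt N (φ z) (pt σ)
  | [], _, N, _ => ⟨(hequiv k (M2.tensorRUnit N) 0).toLinearMap, (hequiv k (M2.tensorRUnit N) 0).injective, by simp⟩
  | a :: l, h, N, hN => by
    have ha := h a (by simp)
    have hI := isInvertible_ptIdeal hdim a ha
    obtain ⟨ψ, hψ, hψv⟩ := exists_vanish_step hdim a ha N hN
    obtain ⟨φ, hφ, hv⟩ := exists_vanish_map l (fun σ hσ => h σ (by simp [hσ]))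
      (CohB1.tensorMod N (ClSub.idealMod a.ker)) (M2.isInvertible_tensor hN hI)
    let T := FGA.tensorList (l.map fun σ => ClSub.idealMod σ.ker)
    let ε : Coh.HH C (CohB1.tensorMod N (CohB1.tensorMod (ClSub.idealMod a.ker) T)) 0 ≃ₗ[k]
        Coh.HH C (CohB1.tensorMod (CohB1.tensorMod N (ClSub.idealMod a.ker)) T) 0 :=
      hequiv k (M2.tensorAssoc N (ClSub.idealMod a.ker) T).symm 0
    refine ⟨(hmap k ψ 0).comp (φ.comp ε.toLinearMap), hψ.comp (hφ.comp ε.injective), fun z σ hσ => ?_⟩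
    rcases List.mem_cons.1 hσ with rfl | hσ
    · exact hψv _
    · exact vanishAt_hmap (k := k) ψ _ _ (hv _ σ hσ)

/-- Each point drops `h⁰` by at most one. -/
theorem h0_le_twist_list : ∀ (l : List (Spec (CommRingCat.of k) ⟶ C))
    (_ : ∀ σ ∈ l, σ ≫ (C ↘ Spec (CommRingCat.of k)) = 𝟙 _) (N : C.Modules) (_ : PicF.IsInvertible N),
    Module.finrank k (Coh.HH C N 0) ≤
      Module.finrank k (Coh.HH C (CohB1.tensorMod N (FGA.tensorList (l.map fun σ => ClSub.idealMod σ.ker))) 0) + l.length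
  | [], _, N, _ => (hequiv k (M2.tensorRUnit N) 0).finrank_eq.symm.le.trans (Nat.le_add_right _ _)
  | a :: l, h, N, hN => by
    have ha := h a (by simp)
    have hI := isInvertible_ptIdeal hdim a ha
    have ih := h0_le_twist_list l (fun σ hσ => h σ (by simp [hσ])) _ (M2.isInvertible_tensor hN hI)
    have hstep : Module.finrank k (Coh.HH C N 0) ≤
        Module.finrank k (Coh.HH C (CohB1.tensorMod N (ClSub.idealMod a.ker)) 0) + 1 := by
      by_cases hm : pt a ∈ goodOpen N
      · exact (h0_drop_of_mem hdim a ha hN hm).le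
      · exact (h0_eq_of_notMem hdim a ha hN hm).le.trans (Nat.le_add_right _ _)
    have e := (hequiv k (M2.tensorAssoc N (ClSub.idealMod a.ker)
      (FGA.tensorList (l.map fun σ => ClSub.idealMod σ.ker))) 0).finrank_eq
    simp only [List.map_cons, List.length_cons]
    exact hstep.trans ((Nat.add_le_add_right (ih.trans (Nat.add_le_add_right e.le _)) 1).trans_eq (Nat.add_assoc _ _ _))

variable [IsAlgClosed k]

/-- Evaluations of independent functions at rational points span. -/
theorem exists_points_det_ne_zero {U : C.Opens} {r : ℕ} (f : Fin r → Γ(C, U))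
    (hf : ∀ c : Fin r → k, ∑ i, cst C U (c i) * f i = 0 → c = 0) :
    ∃ (Q : Fin r → (Spec (CommRingCat.of k) ⟶ C)) (_ : ∀ j, Q j ≫ (C ↘ Spec (CommRingCat.of k)) = 𝟙 _)
      (hQ : ∀ j, pt (Q j) ∈ U), (Matrix.of fun j i => val (Q j) U (hQ j) (f i)).det ≠ 0 := by
  classical
  let p := C ↘ Spec (CommRingCat.of k)
  haveI : JacobsonSpace C := LocallyOfFiniteType.jacobsonSpace p
  let S := {σ : Spec (CommRingCat.of k) ⟶ C // σ ≫ p = 𝟙 _ ∧ pt σ ∈ U}
  let v : S → (Fin r → k) := fun σ i => val σ.1 U σ.2.2 (f i)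
  have hspan : Submodule.span k (Set.range v) = ⊤ := by
    by_contra hne
    obtain ⟨φ, hφ, hle⟩ := Submodule.exists_le_ker_of_lt_top _ (lt_top_iff_ne_top.2 hne)
    refine hφ ?_
    let c : Fin r → k := fun i => φ (Pi.single i 1)
    have hφc : ∀ x : Fin r → k, φ x = ∑ i, c i * x i := fun x => by
      conv_lhs => rw [pi_eq_sum_univ' x]
      simp only [map_sum, map_smul, smul_eq_mul, c]
      exact Finset.sum_congr rfl fun i _ => mul_comm _ _
    have hc : c = 0 := hf c (by
      by_contra hF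
      have hne' : (C.basicOpen (∑ i, cst C U (c i) * f i) : Set C).Nonempty := by
        rw [Set.nonempty_iff_ne_empty]
        intro h
        exact hF ((basicOpen_eq_bot_iff _).1 (SetLike.coe_injective (h.trans Opens.coe_bot.symm)))
      obtain ⟨P, hPm, hP⟩ := nonempty_inter_closedPoints hne' (C.basicOpen _).isOpen.isLocallyClosed
      let σ := pointOfClosedPoint p P hP
      have hσP : pt σ = P := pointOfClosedPoint_apply p P hP _
      have hσU : pt σ ∈ U := hσP.symm ▸ C.basicOpen_le _ hPm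
      have hval : val σ U hσU (∑ i, cst C U (c i) * f i) = 0 := by
        have := hle (Submodule.subset_span ⟨⟨σ, pointOfClosedPoint_comp p P hP, hσU⟩, rfl⟩)
        rw [LinearMap.mem_ker, hφc] at this
        simp only [map_sum, map_mul, val_cst σ (pointOfClosedPoint_comp p P hP)]
        exact this
      exact (val_eq_zero_iff σ U hσU _).1 hval (hσP.symm ▸ hPm))
    exact LinearMap.ext fun x => by rw [hφc, hc]; simp
  obtain ⟨κ, a, -, hspan', hli⟩ := exists_linearIndependent' k v
  rw [hspan] at hspan'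
  let b := Module.Basis.mk hli hspan'.ge
  haveI : Fintype κ := FiniteDimensional.fintypeBasisIndex b
  have hcard : Fintype.card κ = r := by rw [← Module.finrank_eq_card_basis b, Module.finrank_fin_fun]
  let ε : Fin r ≃ κ := (Fintype.equivFinOfCardEq hcard).symm
  refine ⟨fun j => (a (ε j)).1, fun j => (a (ε j)).2.1, fun j => (a (ε j)).2.2, ?_⟩
  have h2 : LinearIndependent k (Matrix.of fun j i => val (a (ε j)).1 U (a (ε j)).2.2 (f i)).row :=
    hli.comp ε ε.injective
  exact ((Matrix.isUnit_iff_isUnit_det _).1 (Matrix.linearIndependent_rows_iff_isUnit.1 h2)).ne_zero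

/-- General points impose independent conditions on the sections of an invertible module. -/
theorem exists_open_h0_twist {N : C.Modules} (hN : PicF.IsInvertible N) (n : ℕ) :
    ∃ O : (SymProd.fibPow (C ↘ Spec (CommRingCat.of k)) n).Opens,
      (O : Set ↥(SymProd.fibPow (C ↘ Spec (CommRingCat.of k)) n)).Nonempty ∧
      ∀ (x : Spec (CommRingCat.of k) ⟶ SymProd.fibPow (C ↘ Spec (CommRingCat.of k)) n)
        (_ : x ≫ WidePullback.base (fun (_ : Fin n) => (C ↘ Spec (CommRingCat.of k))) = 𝟙 _)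
        (_ : ∀ p, x.base p ∈ O),
        Module.finrank k (Coh.HH C (CohB1.tensorMod N (FGA.tensorList (List.ofFn fun i : Fin n =>
          ClSub.idealMod (x ≫ WidePullback.π (fun (_ : Fin n) => (C ↘ Spec (CommRingCat.of k))) i).ker))) 0) =
          Module.finrank k (Coh.HH C N 0) - n := by
  classical
  let p := C ↘ Spec (CommRingCat.of k)
  have hX := VB17.curveLike (k := k) hdim
  haveI := hX.noetherian
  haveI := hX.fin N (isCoh_of_ofRank ((M2.isInvertible_iff_isFinLocFreeOfRank_one N).1 hN)) 0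
  set d := Module.finrank k (Coh.HH C N 0) with hd
  let r := min n d
  obtain ⟨U, e, hgU, -, -, he⟩ := Amp.exists_isGenerator hN (x := genericPoint C) (V := ⊤) trivial
  obtain ⟨ω, hω⟩ := exists_linearIndependent_of_le_finrank (R := k) (M := Coh.HH C N 0)
    (show r ≤ Module.finrank k (Coh.HH C N 0) from min_le_right _ _)
  have hres : ∀ z : Coh.HH C N 0, ∃ g : Γ(C, U), g • e = M1.mres N le_top (hh0 N z) := fun z => by
    obtain ⟨g, hg⟩ := ((he : Twist.IsGen N U e) U le_rfl).2 (M1.mres N le_top (hh0 N z))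
    exact ⟨g, by simpa using hg⟩
  choose g hg using hres
  have hgerm : ∀ (z : Coh.HH C N 0) (P : C) (hP : P ∈ U),
      (N.presheaf.germ ⊤ P trivial (hh0 N z) : N.presheaf.stalk P) =
        C.presheaf.germ U P hP (g z) • (N.presheaf.germ U P hP e : N.presheaf.stalk P) := fun z P hP => by
    rw [← M1.germ_smul, hg, M1.germ_mres]
  have hsum : ∀ c : Fin r → k, g (∑ i, c i • ω i) = ∑ i, cst C U (c i) * g (ω i) := fun c => by
    refine ((he : Twist.IsGen N U e) U le_rfl).1 ?_
    simp only [M1.mres_id]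
    rw [hg, Finset.sum_smul, map_sum, map_sum]
    refine Finset.sum_congr rfl fun i _ => ?_
    rw [mul_smul, hg]
    show M1.mres N le_top (hh0 N (c i • ω i)) = _
    rw [show c i • ω i = (Coh.toGlobal p (c i) : Coh.Γtop C) • ω i from rfl, hh0_smul, M1.mres_smul]
    rfl
  obtain ⟨Q, hQ, hQU, hdet⟩ := exists_points_det_ne_zero hdim (fun i => g (ω i)) fun c hc => by
    rw [← hsum] at hc
    have h0 : hh0 N (∑ i, c i • ω i) = 0 := by
      refine eq_zero_of_germ_eq_zero ((M2.isInvertible_iff_isFinLocFreeOfRank_one _).1 hN) _ (x := genericPoint C) ?_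
      rw [hgerm _ _ hgU, hc, map_zero, zero_smul]
    exact funext (Fintype.linearIndependent_iff.1 hω c ((hh0 N).injective (h0.trans (map_zero _).symm)))
  let P := SymProd.fibPow p n
  let π := fun j : Fin n => WidePullback.π (fun (_ : Fin n) => p) j
  let O₁ : P.Opens := Finset.univ.inf fun j => (π j) ⁻¹ᵁ U
  have hO₁ : ∀ j, O₁ ≤ (π j) ⁻¹ᵁ U := fun j => Finset.inf_le (Finset.mem_univ j)
  let ι : Fin r → Fin n := Fin.castLE (min_le_left _ _)
  let G : Matrix (Fin r) (Fin r) Γ(P, O₁) := Matrix.of fun j i => (π (ι j)).appLE U O₁ (hO₁ _) (g (ω i))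
  have hval : ∀ (x : Spec (CommRingCat.of k) ⟶ P) (hx : pt x ∈ O₁) (hxU : ∀ j, pt (x ≫ π j) ∈ U),
      val x O₁ hx G.det = (Matrix.of fun j i => val (x ≫ π (ι j)) U (hxU _) (g (ω i))).det := by
    intro x hx hxU
    rw [RingHom.map_det]
    congr 1
    funext j i
    exact val_comp x (π (ι j)) O₁ U hx (hxU _) (hO₁ _) _
  refine ⟨P.basicOpen G.det, ?_, fun x hx hxO => ?_⟩
  · haveI : JacobsonSpace C := LocallyOfFiniteType.jacobsonSpace p
    obtain ⟨P₀, hP₀U, hP₀⟩ := nonempty_inter_closedPoints (Z := (U : Set C)) ⟨_, hgU⟩ U.isOpen.isLocallyClosed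
    let Q' : Fin n → (Spec (CommRingCat.of k) ⟶ C) := fun j =>
      if h : (j : ℕ) < r then Q ⟨j, h⟩ else pointOfClosedPoint p P₀ hP₀
    have hQ' : ∀ j, Q' j ≫ p = 𝟙 _ := fun j => by
      simp only [Q']; split
      · exact hQ _
      · exact pointOfClosedPoint_comp p P₀ hP₀
    have hQ'U : ∀ j, pt (Q' j) ∈ U := fun j => by
      simp only [Q']; split
      · exact hQU _
      · rw [show pt (pointOfClosedPoint p P₀ hP₀) = P₀ from pointOfClosedPoint_apply p P₀ hP₀ _]; exact hP₀U
    let x : Spec (CommRingCat.of k) ⟶ P := WidePullback.lift (𝟙 _) Q' hQ'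
    have hxπ : ∀ j, x ≫ π j = Q' j := fun j => WidePullback.lift_π _ _ _ _ _
    have hx : pt x ∈ O₁ := by
      rw [← SetLike.mem_coe, Opens.coe_finset_inf, Finset.inf_eq_iInf]
      simp only [Finset.mem_univ, iInf_pos, Set.iInf_eq_iInter, Set.mem_iInter, Function.comp_apply]
      intro j
      show (π j) (pt x) ∈ U
      have h := hQ'U j
      rw [← hxπ j] at h
      exact h
    refine ⟨pt x, ?_⟩
    by_contra hn
    have h0 := (val_eq_zero_iff x O₁ hx _).2 hn
    rw [hval x hx fun j => (congrArg pt (hxπ j)).symm ▸ hQ'U j] at h0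
    refine hdet ((Eq.trans ?_ h0))
    congr 1
    funext j i
    have : x ≫ π (ι j) = Q j := (hxπ _).trans (dif_pos j.2)
    simp only [Matrix.of_apply]
    congr 2
    exact this.symm
  · have hm : pt x ∈ P.basicOpen G.det := hxO _
    have hx₁ : pt x ∈ O₁ := P.basicOpen_le _ hm
    have hxU : ∀ j, pt (x ≫ π j) ∈ U := fun j => hO₁ j hx₁
    have hdx : (Matrix.of fun j i => val (x ≫ π (ι j)) U (hxU _) (g (ω i))).det ≠ 0 := fun h0 =>
      (val_eq_zero_iff x O₁ hx₁ _).1 ((hval x hx₁ hxU).trans h0) hm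
    have hσ : ∀ σ ∈ List.ofFn fun i : Fin n => x ≫ π i, σ ≫ p = 𝟙 _ := by
      intro σ hσ
      obtain ⟨i, rfl⟩ := List.mem_ofFn.1 hσ
      show (x ≫ WidePullback.π _ i) ≫ p = 𝟙 _
      rw [Category.assoc, WidePullback.π_arrow, hx]
    set T := FGA.tensorList ((List.ofFn fun i : Fin n => x ≫ π i).map fun σ => ClSub.idealMod σ.ker)
    have hlow := h0_le_twist_list hdim _ hσ N hN
    obtain ⟨φ, hφ, hv⟩ := exists_vanish_map hdim _ hσ N hN
    rw [List.length_ofFn] at hlow
    have hT : (List.ofFn fun i : Fin n => ClSub.idealMod (x ≫ π i).ker) =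
        (List.ofFn fun i : Fin n => x ≫ π i).map fun σ => ClSub.idealMod σ.ker := by
      rw [List.map_ofFn]; rfl
    have hdisj : Disjoint (LinearMap.range φ) (Submodule.span k (Set.range ω)) := by
      rw [Submodule.disjoint_def]
      intro z hz hzs
      obtain ⟨w, rfl⟩ := hz
      obtain ⟨c, hc⟩ := (Submodule.mem_span_range_iff_exists_fun k).1 hzs
      suffices c = 0 by rw [← hc, this]; simp
      have hzero : ∀ j : Fin r, ∑ i, c i * val (x ≫ π (ι j)) U (hxU _) (g (ω i)) = 0 := by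
        intro j
        have hmem : VanishAt N (∑ i, c i • ω i) (pt (x ≫ π (ι j))) :=
          (congrArg (fun z => VanishAt N z (pt (x ≫ π (ι j)))) hc).mpr (hv w _ (List.mem_ofFn.2 ⟨ι j, rfl⟩))
        simp only [VanishAt] at hmem
        rw [hgerm _ _ (hxU (ι j)), hsum] at hmem
        have hnu : pt (x ≫ π (ι j)) ∉ C.basicOpen (∑ i, cst C U (c i) * g (ω i)) := by
          intro hb
          rw [C.mem_basicOpen _ _ (hxU (ι j))] at hb
          rw [Submodule.smul_mem_iff_of_isUnit _ hb] at hmem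
          obtain ⟨v, hv'⟩ := CurveOm17.exists_not_mem_smul hN (pt (x ≫ π (ι j)))
          obtain ⟨a, rfl⟩ := (Twist.IsGen.stalk (he : Twist.IsGen N U e) (hxU (ι j))).2 v
          exact hv' (Submodule.smul_mem _ a hmem)
        have := (val_eq_zero_iff (x ≫ π (ι j)) U (hxU _) _).2 hnu
        simpa only [map_sum, map_mul, val_cst (x ≫ π (ι j)) (hσ _ (List.mem_ofFn.2 ⟨ι j, rfl⟩))] using this
      refine Matrix.eq_zero_of_mulVec_eq_zero hdx (funext fun j => ?_)
      rw [Pi.zero_apply, ← hzero j]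
      simp only [Matrix.mulVec, dotProduct, Matrix.of_apply]
      exact Finset.sum_congr rfl fun i _ => mul_comm _ _
    have hsum' := Submodule.finrank_add_finrank_le_of_disjoint hdisj
    rw [LinearMap.finrank_range_of_inj hφ, finrank_span_eq_card hω, Fintype.card_fin] at hsum'
    show Module.finrank k (Coh.HH C (CohB1.tensorMod N (FGA.tensorList (List.ofFn fun i : Fin n =>
      ClSub.idealMod (x ≫ π i).ker))) 0) = d - n
    refine (congrArg (fun l => Module.finrank k (Coh.HH C (CohB1.tensorMod N (FGA.tensorList l)) 0)) hT).trans ?_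
    have h1 : d ≤ Module.finrank k (Coh.HH C (CohB1.tensorMod N T) 0) + n := hlow
    have h2 : Module.finrank k (Coh.HH C (CohB1.tensorMod N T) 0) + r ≤ d := hsum'
    change Module.finrank k (Coh.HH C (CohB1.tensorMod N T) 0) = d - n
    generalize Module.finrank k (Coh.HH C (CohB1.tensorMod N T) 0) = a at h1 h2 ⊢
    rcases le_total n d with h | h
    · rw [show r = n from min_eq_left h] at h2
      omega
    · rw [show r = d from min_eq_right h] at h2
      omega



omit [IsAlgClosed k] in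
theorem deg_ptList : ∀ (l : List (Spec (CommRingCat.of k) ⟶ C))
    (_ : ∀ σ ∈ l, σ ≫ (C ↘ Spec (CommRingCat.of k)) = 𝟙 _),
    Curv2.deg k C (FGA.tensorList (l.map fun σ => ClSub.idealMod σ.ker)) 1 = -(l.length : ℤ)
  | [], _ => (CurveCoh17.deg_structureModule (k := k) (X := C)).trans (by simp)
  | a :: l, h => by
    have ha := h a (by simp)
    simp only [List.map_cons, List.length_cons]
    show Curv2.deg k C (CohB1.tensorMod _ _) 1 = _
    rw [(VB17.curveLike (k := k) hdim).deg_tensor_invertible (isInvertible_ptIdeal hdim a ha)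
      (isInvertible_ptList hdim l fun σ hσ => h σ (by simp [hσ])), Abel10.deg_point hdim a ha,
      deg_ptList l fun σ hσ => h σ (by simp [hσ])]
    push_cast
    ring

omit [IsAlgClosed k] in
theorem deg_ptFn {n : ℕ} (Q : Fin n → (Spec (CommRingCat.of k) ⟶ C))
    (hQ : ∀ i, Q i ≫ (C ↘ Spec (CommRingCat.of k)) = 𝟙 _) :
    PicF.IsInvertible (FGA.tensorList (List.ofFn fun i => ClSub.idealMod (Q i).ker)) ∧
      Curv2.deg k C (FGA.tensorList (List.ofFn fun i => ClSub.idealMod (Q i).ker)) 1 = -(n : ℤ) := by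
  have h : ∀ σ ∈ List.ofFn Q, σ ≫ (C ↘ Spec (CommRingCat.of k)) = 𝟙 _ := fun σ hσ => by
    obtain ⟨i, rfl⟩ := List.mem_ofFn.1 hσ; exact hQ i
  have e : (List.ofFn fun i => ClSub.idealMod (Q i).ker) = (List.ofFn Q).map fun σ => ClSub.idealMod σ.ker := by
    rw [List.map_ofFn]; rfl
  rw [e]
  exact ⟨isInvertible_ptList hdim _ h, by rw [deg_ptList hdim _ h, List.length_ofFn]⟩

end Groth.Agent.CurvePts22
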