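import Groth.Agent.Lib.CurvePts22.General
import Groth.Agent.Lib.AbRigid.SmoothGI
import Groth.Agent.S18366

/-!
# Removing rational points one by one over a separably closed field
-/

set_option autoImplicit false
set_option linter.style.haveILetI false
set_option linter.unusedSectionVars false
set_option backward.isDefEq.respectTransparency false
set_option backward.isDefEq.respectTransparency.types false

universe u

open CategoryTheory CategoryTheory.Limits AlgebraicGeometry TopologicalSpace Opposite

noncomputable section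

namespace Groth.Agent.CurvePts22

open Groth.Agent.CurveCoh17

variable {k : Type u} [Field k] [IsSepClosed k] {C : Scheme.{u}} [C.Over (Spec (CommRingCat.of k))]
  [IsProper (C ↘ Spec (CommRingCat.of k))] [Smooth (C ↘ Spec (CommRingCat.of k))] [IsIntegral C]
  (hdim : topologicalKrullDim C = 1)
include hdim

theorem exists_section_mem {U : C.Opens} (hU : (U : Set C).Nonempty) :
    ∃ σ : Spec (CommRingCat.of k) ⟶ C, σ ≫ (C ↘ Spec (CommRingCat.of k)) = 𝟙 _ ∧ pt σ ∈ U := by
  haveI := (VB17.curveLike (k := k) hdim).noetherian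
  haveI : Nonempty (U : Scheme.{u}) := hU.to_subtype
  haveI : QuasiCompact U.ι := inferInstance
  haveI : GeometricallyReduced (U.ι ≫ (C ↘ Spec (CommRingCat.of k))) :=
    AbRigid.geometricallyReduced_of_smooth (U.ι ≫ (C ↘ Spec (CommRingCat.of k)))
  obtain ⟨s, hs⟩ := S18366.result k (U.ι ≫ (C ↘ Spec (CommRingCat.of k)))
  refine ⟨s ≫ U.ι, by rw [Category.assoc, hs], ?_⟩
  exact (s (IsLocalRing.closedPoint k)).2

theorem exists_points_drop : ∀ (m : ℕ) (N : C.Modules) (_ : PicF.IsInvertible N)
    (_ : m ≤ Module.finrank k (Coh.HH C N 0)),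
    ∃ σ : Fin m → (Spec (CommRingCat.of k) ⟶ C), (∀ t, σ t ≫ (C ↘ Spec (CommRingCat.of k)) = 𝟙 _) ∧
      Module.finrank k (Coh.HH C (CohB1.tensorMod N (FGA.tensorList (List.ofFn fun t : Fin m =>
        ClSub.idealMod (σ t).ker))) 0) + m = Module.finrank k (Coh.HH C N 0)
  | 0, N, _, _ => ⟨Fin.elim0, fun t => t.elim0, by
      rw [List.ofFn_zero, Nat.add_zero]; exact (hequiv k (M2.tensorRUnit N) 0).finrank_eq⟩
  | m + 1, N, hN, hm => by
    obtain ⟨a, ha, hmem⟩ := exists_section_mem (k := k) hdim (goodOpen_nonempty (k := k) hN (by omega))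
    have hd := h0_drop_of_mem hdim a ha hN hmem
    obtain ⟨σ, hσ, h⟩ := exists_points_drop m (CohB1.tensorMod N (ClSub.idealMod a.ker))
      (M2.isInvertible_tensor hN (isInvertible_ptIdeal hdim a ha)) (by omega)
    refine ⟨Fin.cons a σ, Fin.cases ha hσ, ?_⟩
    rw [List.ofFn_succ]
    have e := (hequiv k (M2.tensorAssoc N (ClSub.idealMod a.ker)
      (FGA.tensorList (List.ofFn fun t : Fin m => ClSub.idealMod (σ t).ker))) 0).finrank_eq
    change Module.finrank k (Coh.HH C (CohB1.tensorMod N (CohB1.tensorMod _ _)) 0) + _ = _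
    exact ((congrArg (· + (m + 1)) e.symm).trans ((Nat.add_assoc _ m 1).symm.trans (congrArg (· + 1) h))).trans hd.symm

end Groth.Agent.CurvePts22
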